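import Cfsg.Agent.FiC.F24.D0
import Cfsg.Agent.FiC.Glu3

set_option autoImplicit false
set_option maxRecDepth 100000
set_option Elab.async false
set_option linter.unusedSectionVars false
set_option linter.unusedVariables false

namespace Cfsg.Agent.FiC.F24
open Cfsg.Agent.Comp Cfsg.Agent.FiC

variable {G : Type*} [Group G] [Finite G] {D : Set G} {τ s : ℕ → G}

theorem tr1 (b : Base D τ s d0 2510411418381323442585600) : TrU D s [[nat_lit 0]] :=
  b.trU (TrU.nil _ _) _ (nat_lit 0) [[nat_lit 0], [nat_lit 2], [nat_lit 24], [nat_lit 26], [nat_lit 28], [nat_lit 34], [nat_lit 36], [nat_lit 38], [nat_lit 40], [nat_lit 42], [nat_lit 44], [nat_lit 48], [nat_lit 50], [nat_lit 52]] [nat_lit 1, nat_lit 2, nat_lit 3, nat_lit 2, nat_lit 6, nat_lit 7, nat_lit 8, nat_lit 10, nat_lit 11, nat_lit 12, nat_lit 4, nat_lit 13, nat_lit 5, nat_lit 3, nat_lit 9, nat_lit 2, nat_lit 7, nat_lit 8, nat_lit 4, nat_lit 12,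 nat_lit 3, nat_lit 9, nat_lit 0] (by decide +kernel)

theorem tr2 (b : Base D τ s d0 2510411418381323442585600) : TrU D s [[nat_lit 4], [nat_lit 0]] :=
  b.trU (tr1 b) _ (nat_lit 1) [[nat_lit 4], [nat_lit 6], [nat_lit 30], [nat_lit 32], [nat_lit 34], [nat_lit 36], [nat_lit 38], [nat_lit 40], [nat_lit 42], [nat_lit 44], [nat_lit 48], [nat_lit 50], [nat_lit 54]] [nat_lit 1, nat_lit 2, nat_lit 3, nat_lit 4, nat_lit 5, nat_lit 7, nat_lit 8, nat_lit 10, nat_lit 6, nat_lit 2, nat_lit 11, nat_lit 12, nat_lit 3, nat_lit 8, nat_lit 9, nat_lit 6, nat_lit 10, nat_lit 2, nat_lit 0] (by decide +kernel)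

theorem tr3 (b : Base D τ s d0 2510411418381323442585600) : TrU D s [[nat_lit 8], [nat_lit 4], [nat_lit 0]] :=
  b.trU (tr2 b) _ (nat_lit 3) [[nat_lit 10], [nat_lit 36], [nat_lit 38], [nat_lit 40], [nat_lit 42], [nat_lit 44], [nat_lit 46], [nat_lit 48], [nat_lit 50], [nat_lit 52], [nat_lit 54]] [nat_lit 0, nat_lit 1, nat_lit 3, nat_lit 2, nat_lit 4, nat_lit 6, nat_lit 8, nat_lit 5, nat_lit 2, nat_lit 9, nat_lit 3, nat_lit 7, nat_lit 10, nat_lit 9, nat_lit 3] (by decide +kernel)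

theorem tr4 (b : Base D τ s d0 2510411418381323442585600) : TrU D s [[nat_lit 12], [nat_lit 8], [nat_lit 4], [nat_lit 0]] :=
  b.trU (tr3 b) _ (nat_lit 7) [[nat_lit 14], [nat_lit 42], [nat_lit 44], [nat_lit 48], [nat_lit 50], [nat_lit 52], [nat_lit 54]] [nat_lit 0, nat_lit 1, nat_lit 2, nat_lit 4, nat_lit 5, nat_lit 1, nat_lit 6, nat_lit 2, nat_lit 3, nat_lit 1, nat_lit 6, nat_lit 4, nat_lit 0] (by decide +kernel)

theorem wn (b : Base D τ s d0 2510411418381323442585600) {x y : G} (hx : x ∈ D) (hy : y ∈ D) (h : ¬ Commute x y) :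
    ∃ τ' s', Base D τ' s' d0 2510411418381323442585600 ∧ x = E s' [nat_lit 0] ∧ y = E s' [nat_lit 2] :=
  b.wlog2n (fun _ _ => tr1) [[nat_lit 0], [nat_lit 4], [nat_lit 30], [nat_lit 32], [nat_lit 34], [nat_lit 36], [nat_lit 38], [nat_lit 40], [nat_lit 42], [nat_lit 44], [nat_lit 48], [nat_lit 50], [nat_lit 52], [nat_lit 54]] [nat_lit 0, nat_lit 1, nat_lit 5, nat_lit 6, nat_lit 7, nat_lit 8, nat_lit 9, nat_lit 10, nat_lit 11, nat_lit 13, nat_lit 3, nat_lit 4, nat_lit 6, nat_lit 12, nat_lit 8, nat_lit 2, nat_lit 10, nat_lit 7, nat_lit 9, nat_lit 5, nat_lit 4, nat_lit 2] (by decide +kernel) hx hy h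

theorem pt1 (b : Base D τ s d0 2510411418381323442585600) : orderOf (E s [nat_lit 0]) = 2 ∧ ∀ x, PT D 1 x ↔ IsConj (E s [nat_lit 0]) x :=
  b.pt_iff (tr1 b) _ _ (nat_lit 31672) (by decide +kernel)

theorem pt2 (b : Base D τ s d0 2510411418381323442585600) : orderOf (E s [nat_lit 4, nat_lit 0]) = 2 ∧ ∀ x, PT D 2 x ↔ IsConj (E s [nat_lit 4, nat_lit 0]) x :=
  b.pt_iff (tr2 b) _ _ (nat_lit 2) (by decide +kernel)

theorem pt3 (b : Base D τ s d0 2510411418381323442585600) : orderOf (E s [nat_lit 8, nat_lit 4, nat_lit 0]) = 2 ∧ ∀ x, PT D 3 x ↔ IsConj (E s [nat_lit 8, nat_lit 4, nat_lit 0]) x :=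
  b.pt_iff (tr3 b) _ _ (nat_lit 2) (by decide +kernel)

theorem pt4 (b : Base D τ s d0 2510411418381323442585600) : orderOf (E s [nat_lit 12, nat_lit 8, nat_lit 4, nat_lit 0]) = 2 ∧ ∀ x, PT D 4 x ↔ IsConj (E s [nat_lit 12, nat_lit 8, nat_lit 4, nat_lit 0]) x :=
  b.pt_iff (tr4 b) _ _ (nat_lit 2) (by decide +kernel)

theorem lk3 (b : Base D τ s d0 2510411418381323442585600) : (E s [nat_lit 0] * E s [nat_lit 2]) ^ 3 = 1 :=
  by simpa [E, pow_succ, mul_assoc] using b.x.eq1 [nat_lit 0, nat_lit 2, nat_lit 0, nat_lit 2, nat_lit 0, nat_lit 2] [] (by decide +kernel)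

theorem nloc (b : Base D τ s d0 2510411418381323442585600) : {y : G | y ∈ D ∧ y ≠ E s [nat_lit 0] ∧ Commute (E s [nat_lit 0]) y}.ncard = 31671 :=
  b.ncard_eq _ _ (fun _ h => h.1) (b.cm_mem _) _ (by decide +kernel)

theorem nmu (b : Base D τ s d0 2510411418381323442585600) : {y : G | y ∈ D ∧ Commute (E s [nat_lit 0]) y ∧ Commute (E s [nat_lit 2]) y ∧ y ≠ E s [nat_lit 0] ∧ y ≠ E s [nat_lit 2]}.ncard = 3240 :=
  b.ncard_eq _ _ (fun _ h => h.1) (b.cm_mem2 _ _) _ (by decide +kernel)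

theorem gW0 (b : Base D τ s d0 2510411418381323442585600) : GE s [[nat_lit 0], [nat_lit 4], [nat_lit 6], [nat_lit 8], [nat_lit 10], [nat_lit 12], [nat_lit 14], [nat_lit 16], [nat_lit 18], [nat_lit 20], [nat_lit 22]] 8178940946586009600 :=
  by
  obtain ⟨τ₀, s₀, b₀, h⟩ := base0
  have e := genW_double h Fi24.W0 (by decide)
  exact ((b.x.card_eq b₀.x _).trans ((congrArg (fun H : Subgroup _ => Nat.card H) e).trans Fi24.cardW0)).ge

theorem gca (b : Base D τ s d0 2510411418381323442585600) : GE s [[nat_lit 4], [nat_lit 6], [nat_lit 8], [nat_lit 10], [nat_lit 12], [nat_lit 14], [nat_lit 16], [nat_lit 18], [nat_lit 20], [nat_lit 22]] 8178940946586009600 :=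
  GE.sub b.x (gW0 b) _ [([nat_lit 0], [nat_lit 0, nat_lit 2, nat_lit 4, nat_lit 10, nat_lit 14, nat_lit 8, nat_lit 12, nat_lit 16, nat_lit 6, nat_lit 0, nat_lit 2, nat_lit 4, nat_lit 10, nat_lit 14, nat_lit 8, nat_lit 12, nat_lit 16, nat_lit 6, nat_lit 0, nat_lit 2, nat_lit 4, nat_lit 10, nat_lit 14, nat_lit 8, nat_lit 12, nat_lit 16, nat_lit 6, nat_lit 0, nat_lit 2, nat_lit 4, nat_lit 10, nat_lit 14, nat_lit 8, nat_lit 12, nat_lit 16, nat_lit 6, nat_lit 0, nat_lit 2, nat_lit 4, nat_lit 10, nat_lit 14, nat_lit 8, nat_lit 12, nat_lit 16, nat_lit 6, nat_lit 0, nat_lit 2, nat_lit 4, nat_lit 10, nat_lit 14, nat_lit 8, nat_lit 12, nat_lit 16, nat_lit 6, nat_lit 0, nat_lit 2, nat_lit 4, nat_lit 10, nat_lit 14, nat_lit 8, nat_lit 12, nat_lit 16, nat_lit 6, nat_lit 0, nat_lit 2, nat_lit 4, nat_lit 10, nat_lit 14, nat_lit 8, nat_lit 12, nat_lit 16, nat_lit 6, nat_lit 0, nat_lit 2, nat_lit 4, nat_lit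 10, nat_lit 14, nat_lit 8, nat_lit 12, nat_lit 16, nat_lit 6, nat_lit 0, nat_lit 2, nat_lit 4, nat_lit 10, nat_lit 14, nat_lit 8, nat_lit 12, nat_lit 16, nat_lit 6, nat_lit 0, nat_lit 2, nat_lit 4, nat_lit 10, nat_lit 14, nat_lit 8, nat_lit 12, nat_lit 16, nat_lit 6, nat_lit 0, nat_lit 2, nat_lit 4, nat_lit 10, nat_lit 14, nat_lit 8, nat_lit 12, nat_lit 16, nat_lit 6, nat_lit 0, nat_lit 2, nat_lit 4, nat_lit 10, nat_lit 14, nat_lit 8, nat_lit 12, nat_lit 16, nat_lit 6, nat_lit 0, nat_lit 2, nat_lit 4, nat_lit 10, nat_lit 14, nat_lit 8, nat_lit 12, nat_lit 16, nat_lit 6, nat_lit 0, nat_lit 2, nat_lit 4, nat_lit 10, nat_lit 14, nat_lit 8, nat_lit 12, nat_lit 16, nat_lit 6, nat_lit 0, nat_lit 2, nat_lit 4, nat_lit 10, nat_lit 14, nat_lit 8, nat_lit 12, nat_lit 16, nat_lit 6, nat_lit 0, nat_lit 2, nat_lit 4, nat_lit 10, nat_lit 14, nat_lit 8, nat_lit 12, nat_lit 16, nat_lit 6])] (by decide +kernel)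

noncomputable def caW : List (List Nat) := [[nat_lit 4], [nat_lit 6], [nat_lit 8], [nat_lit 10], [nat_lit 12], [nat_lit 14], [nat_lit 16], [nat_lit 18], [nat_lit 20], [nat_lit 22]]

theorem ca (b : Base D τ s d0 2510411418381323442585600) : Cen ⊤ s [[nat_lit 0]] = genW (sv s) caW ∧ Nat.card (genW (sv s) caW) = 8178940946586009600 :=
  CU.eq b.x le_rfl (zcu8 b) (gca b) (nat_lit 1) (by decide +kernel)

theorem cla (b : Base D τ s d0 2510411418381323442585600) : Subgroup.closure {y : G | y ∈ D ∧ y ≠ E s [nat_lit 0] ∧ Commute (E s [nat_lit 0]) y} = genW (sv s) caW :=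
  b.closure_eq _ _ (fun _ h => h.1) (b.cm_mem _) _ [([nat_lit 4], [nat_lit 1, nat_lit 0, nat_lit 2, nat_lit 3, nat_lit 1, nat_lit 4, nat_lit 8, nat_lit 5, nat_lit 9, nat_lit 3, nat_lit 2, nat_lit 6, nat_lit 7, nat_lit 4, nat_lit 8, nat_lit 3, nat_lit 5, nat_lit 1, nat_lit 4, nat_lit 2, nat_lit 8, nat_lit 9, nat_lit 3, nat_lit 1, nat_lit 5, nat_lit 6, nat_lit 0, nat_lit 8, nat_lit 2, nat_lit 4, nat_lit 5, nat_lit 9, nat_lit 3, nat_lit 4, nat_lit 7, nat_lit 1, nat_lit 6, nat_lit 3, nat_lit 2, nat_lit 8, nat_lit 0, nat_lit 1, nat_lit 3, nat_lit 0, nat_lit 2, nat_lit 4, nat_lit 8, nat_lit 1, nat_lit 3, nat_lit 0, nat_lit 5, nat_lit 4, nat_lit 2, nat_lit 6, nat_lit 1, nat_lit 7])] (by decide +kernel)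

theorem ycu1 (b : Base D τ s d0 2510411418381323442585600) : CU ⊤ s [[nat_lit 50, nat_lit 53, nat_lit 2, nat_lit 0, nat_lit 3, nat_lit 52, nat_lit 51], [nat_lit 22], [nat_lit 16], [nat_lit 12], [nat_lit 8], [nat_lit 4], [nat_lit 0]] 128 :=
  CU.down b.x le_rfl (zcu13 b) (nat_lit 63) [[nat_lit 0], [nat_lit 4], [nat_lit 55, nat_lit 56, nat_lit 51, nat_lit 54, nat_lit 0], [nat_lit 52, nat_lit 51, nat_lit 51, nat_lit 52, nat_lit 20], [nat_lit 52, nat_lit 52, nat_lit 50, nat_lit 54, nat_lit 52, nat_lit 20], [nat_lit 51, nat_lit 52, nat_lit 50, nat_lit 54, nat_lit 50, nat_lit 54]] [nat_lit 50, nat_lit 53, nat_lit 2, nat_lit 0, nat_lit 3, nat_lit 52, nat_lit 51] [nat_lit 0, nat_lit 1, nat_lit 2, nat_lit 4, nat_lit 2, nat_lit 5, nat_lit 3, nat_lit 5, nat_lit 2] (nat_lit 96) 128 (by decide +kernel)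

theorem ycu2 (b : Base D τ s d0 2510411418381323442585600) : CU ⊤ s [[nat_lit 35, nat_lit 37, nat_lit 31, nat_lit 12, nat_lit 30, nat_lit 36, nat_lit 34], [nat_lit 50, nat_lit 53, nat_lit 2, nat_lit 0, nat_lit 3, nat_lit 52, nat_lit 51], [nat_lit 22], [nat_lit 16], [nat_lit 12], [nat_lit 8], [nat_lit 4], [nat_lit 0]] 16 :=
  CU.down b.x le_rfl (ycu1 b) (nat_lit 127) [[nat_lit 8], [nat_lit 50, nat_lit 55, nat_lit 52, nat_lit 20, nat_lit 51], [nat_lit 20, nat_lit 51, nat_lit 56, nat_lit 50, nat_lit 20]] [nat_lit 35, nat_lit 37, nat_lit 31, nat_lit 12, nat_lit 30, nat_lit 36, nat_lit 34] [nat_lit 0, nat_lit 1, nat_lit 2] (nat_lit 8) 16 (by decide +kernel)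

theorem ycu3 (b : Base D τ s d0 2510411418381323442585600) : CU ⊤ s [[nat_lit 50, nat_lit 36, nat_lit 18, nat_lit 37, nat_lit 51], [nat_lit 35, nat_lit 37, nat_lit 31, nat_lit 12, nat_lit 30, nat_lit 36, nat_lit 34], [nat_lit 50, nat_lit 53, nat_lit 2, nat_lit 0, nat_lit 3, nat_lit 52, nat_lit 51], [nat_lit 22], [nat_lit 16], [nat_lit 12], [nat_lit 8], [nat_lit 4], [nat_lit 0]] 4 :=
  CU.down b.x le_rfl (ycu2 b) (nat_lit 255) [[nat_lit 12], [nat_lit 22]] [nat_lit 50, nat_lit 36, nat_lit 18, nat_lit 37, nat_lit 51] [nat_lit 0, nat_lit 1] (nat_lit 4) 4 (by decide +kernel)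

theorem ycu4 (b : Base D τ s d0 2510411418381323442585600) : CU ⊤ s [[nat_lit 52, nat_lit 26, nat_lit 31, nat_lit 4, nat_lit 30, nat_lit 27, nat_lit 53], [nat_lit 50, nat_lit 36, nat_lit 18, nat_lit 37, nat_lit 51], [nat_lit 35, nat_lit 37, nat_lit 31, nat_lit 12, nat_lit 30, nat_lit 36, nat_lit 34], [nat_lit 50, nat_lit 53, nat_lit 2, nat_lit 0, nat_lit 3, nat_lit 52, nat_lit 51], [nat_lit 22], [nat_lit 16], [nat_lit 12], [nat_lit 8], [nat_lit 4], [nat_lit 0]] 1 :=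
  CU.down b.x le_rfl (ycu3 b) (nat_lit 511) [[nat_lit 16], [nat_lit 51, nat_lit 56, nat_lit 20, nat_lit 50]] [nat_lit 52, nat_lit 26, nat_lit 31, nat_lit 4, nat_lit 30, nat_lit 27, nat_lit 53] [nat_lit 0, nat_lit 1] (nat_lit 4) 1 (by decide +kernel)

theorem ycu5 (b : Base D τ s d0 2510411418381323442585600) : CU ⊤ s [[nat_lit 0], [nat_lit 2], [nat_lit 4], [nat_lit 6], [nat_lit 8], [nat_lit 10], [nat_lit 12], [nat_lit 14], [nat_lit 16], [nat_lit 18], [nat_lit 20], [nat_lit 22]] 1 :=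
  CU.mono b.x le_rfl (ycu4 b) [[nat_lit 0], [nat_lit 2], [nat_lit 4], [nat_lit 6], [nat_lit 8], [nat_lit 10], [nat_lit 12], [nat_lit 14], [nat_lit 16], [nat_lit 18], [nat_lit 20], [nat_lit 22]] [nat_lit 55, nat_lit 52, nat_lit 51, nat_lit 55, nat_lit 51, nat_lit 52] [[nat_lit 18], [nat_lit 10], [nat_lit 6], [nat_lit 2], [nat_lit 20], [nat_lit 16], [nat_lit 12], [nat_lit 8], [nat_lit 4], [nat_lit 0]] (by decide +kernel)

theorem zall (b : Base D τ s d0 2510411418381323442585600) : CU ⊤ s [[nat_lit 0], [nat_lit 2], [nat_lit 4], [nat_lit 6], [nat_lit 8], [nat_lit 10], [nat_lit 12], [nat_lit 14], [nat_lit 16], [nat_lit 18], [nat_lit 20], [nat_lit 22]] 1 :=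
  (ycu5 b)

theorem gall (b : Base D τ s d0 2510411418381323442585600) : GE s [[nat_lit 0], [nat_lit 2], [nat_lit 4], [nat_lit 6], [nat_lit 8], [nat_lit 10], [nat_lit 12], [nat_lit 14], [nat_lit 16], [nat_lit 18], [nat_lit 20], [nat_lit 22]] 2510411418381323442585600 :=
  GE.step b.x (gW0 b) _ [] (nat_lit 0) [nat_lit 1, nat_lit 0, nat_lit 2, nat_lit 3, nat_lit 1, nat_lit 4, nat_lit 5, nat_lit 2, nat_lit 6, nat_lit 10, nat_lit 7, nat_lit 11, nat_lit 5, nat_lit 8, nat_lit 4, nat_lit 3, nat_lit 6, nat_lit 9, nat_lit 10, nat_lit 5, nat_lit 7, nat_lit 4, nat_lit 6, nat_lit 10, nat_lit 11, nat_lit 5, nat_lit 7, nat_lit 8, nat_lit 3, nat_lit 2, nat_lit 10, nat_lit 4, nat_lit 6, nat_lit 7, nat_lit 3, nat_lit 1, nat_lit 11, nat_lit 5, nat_lit 6, nat_lit 4, nat_lit 10, nat_lit 5, nat_lit 2, nat_lit 9, nat_lit 10, nat_lit 4, nat_lit 3, nat_lit 11, nat_lit 7, nat_lit 8, nat_lit 2, nat_lit 6, nat_lit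 7, nat_lit 5, nat_lit 4, nat_lit 6, nat_lit 1, nat_lit 8, nat_lit 5, nat_lit 7, nat_lit 3, nat_lit 6, nat_lit 2, nat_lit 0, nat_lit 8, nat_lit 9] (nat_lit 306936) 2510411418381323442585600 (by decide +kernel)

end Cfsg.Agent.FiC.F24
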